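import Mathlib
import Cfsg.Prelude.Def_Transfer
import Cfsg.Agent.Lib.LargeExtra.Extraspecial

/-!
Elementary consequences of an involution centralizer `2^(1+4).A5` with one class of involutions.
-/

set_option autoImplicit false
set_option maxRecDepth 100000

namespace CfsgLib.JThreeType

open Subgroup

theorem a5_four : ∀ a : alternatingGroup (Fin 5), a ^ 4 = 1 → a ^ 2 = 1 := by decide +kernel

variable {G : Type*} [Group G] [Finite G] (t : G)
  (Q : Subgroup (centralizer ({t} : Set G))) [Q.Normal]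

theorem card_centralizer_conj
    (hone : ∀ x y : G, orderOf x = 2 → orderOf y = 2 → IsConj x y) (ht : orderOf t = 2)
    (hcard : Nat.card Q = 32) (e : (centralizer ({t} : Set G)) ⧸ Q ≃* alternatingGroup (Fin 5))
    (u : G) (hu : orderOf u = 2) : Nat.card (centralizer ({u} : Set G)) = 1920 := by
  obtain ⟨c, hc⟩ := isConj_iff.1 (hone u t hu ht)
  have h := Q.card_mul_index
  rw [index_eq_card, Nat.card_congr e.toEquiv, hcard, nat_card_alternatingGroup] at h
  rw [show (1920 : ℕ) = Nat.card (centralizer ({t} : Set G)) by rw [← h]; simp [Nat.factorial]]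
  refine Nat.card_congr
    { toFun := fun x => ⟨c * x * c⁻¹, mem_centralizer_singleton_iff.2 ?_⟩
      invFun := fun x => ⟨c⁻¹ * x * c, mem_centralizer_singleton_iff.2 ?_⟩
      left_inv := fun x => Subtype.ext (by simp [mul_assoc])
      right_inv := fun x => Subtype.ext (by simp [mul_assoc]) }
  · have hx := mem_centralizer_singleton_iff.1 x.2
    calc c * (x : G) * c⁻¹ * t = c * ((x : G) * u) * c⁻¹ := by rw [← hc]; group
      _ = t * (c * x * c⁻¹) := by rw [hx, ← hc]; group
  · have hx := mem_centralizer_singleton_iff.1 x.2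
    have e1 : u = c⁻¹ * t * c := by rw [← hc]; group
    calc c⁻¹ * (x : G) * c * u = c⁻¹ * ((x : G) * t) * c := by rw [e1]; group
      _ = u * (c⁻¹ * x * c) := by rw [hx, e1]; group

theorem no_order_sixteen (hone : ∀ x y : G, orderOf x = 2 → orderOf y = 2 → IsConj x y)
    (ht : orderOf t = 2) (hQ : Cfsg.IsExtraspecial 2 Q)
    (e : (centralizer ({t} : Set G)) ⧸ Q ≃* alternatingGroup (Fin 5)) (g : G) :
    orderOf g ≠ 16 := by
  intro hg
  have hu : orderOf (g ^ 8) = 2 := by
    have := orderOf_pow_orderOf_div (x := g) (n := 2) (by omega) (by omega)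
    rwa [hg] at this
  obtain ⟨c, hc⟩ := isConj_iff.1 (hone _ t hu ht)
  have hmem : c * g * c⁻¹ ∈ centralizer ({t} : Set G) := by
    refine mem_centralizer_singleton_iff.2 ?_
    rw [← hc, ← conj_pow]
    exact ((Commute.refl _).pow_right 8).eq
  let x : centralizer ({t} : Set G) := ⟨c * g * c⁻¹, hmem⟩
  have h16 : x ^ 16 = 1 := by
    refine Subtype.ext ?_
    show (c * g * c⁻¹) ^ 16 = 1
    rw [conj_pow, ← hg, pow_orderOf_eq_one]
    group
  set a := e (x : (centralizer ({t} : Set G)) ⧸ Q) with ha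
  have a16 : a ^ 16 = 1 := by
    rw [ha, ← map_pow, ← QuotientGroup.mk_pow, h16, QuotientGroup.mk_one, map_one]
  have a8 : a ^ 8 = 1 := by
    have := a5_four (a ^ 4) (by rw [← pow_mul]; exact a16)
    rwa [← pow_mul] at this
  have a4 : a ^ 4 = 1 := by
    have := a5_four (a ^ 2) (by rw [← pow_mul]; exact a8)
    rwa [← pow_mul] at this
  have a2 := a5_four a a4
  have hxQ : x ^ 2 ∈ Q := by
    rw [← QuotientGroup.eq_one_iff, QuotientGroup.mk_pow, ← e.map_eq_one_iff, map_pow]
    exact a2
  have hc2 := CfsgLib.LargeExtra.sq_mem_center hQ (⟨x ^ 2, hxQ⟩ : Q)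
  have h2 : (⟨_, hc2⟩ : center Q) ^ 2 = 1 := by
    have h := pow_card_eq_one' (x := (⟨_, hc2⟩ : center Q))
    rwa [hQ.2] at h
  have h8 : x ^ 8 = 1 := by
    have h := congrArg (fun z : center Q => ((z : Q) : centralizer ({t} : Set G))) h2
    simp only [SubgroupClass.coe_pow, coe_mul, OneMemClass.coe_one] at h
    rw [← h]; group
  have h8G : (c * g * c⁻¹) ^ 8 = 1 := congrArg Subtype.val h8
  rw [conj_pow, hc] at h8G
  rw [h8G, orderOf_one] at ht
  exact absurd ht (by decide)

end CfsgLib.JThreeType
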