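import Mathlib
import Cfsg.Prelude.Def_Transfer
import Cfsg.Agent.Lib.Invol.ZStarFinal

/-!
In a finite simple group, an extraspecial normal subgroup of order 32 of an involution centralizer with
quotient the alternating group of degree five contains its centralizer.
-/

set_option autoImplicit false
set_option linter.style.haveILetI false
set_option linter.unusedSectionVars false

namespace CfsgLib.JThreeType

open Subgroup
open scoped commutatorElement

theorem index_le_two_of_diff {Q : Type*} [Group Q] [Finite Q] (A : Subgroup Q)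
    (h : ∀ q r : Q, q ∉ A → r ∉ A → q⁻¹ * r ∈ A) : A.index ≤ 2 := by
  classical
  have hinj : Function.Injective
      (fun x : Q ⧸ A => decide (x = ((1 : Q) : Q ⧸ A))) := by
    intro x y
    induction x using QuotientGroup.induction_on with | _ q =>
    induction y using QuotientGroup.induction_on with | _ r =>
    intro hxy
    have hiff := decide_eq_decide.1 hxy
    by_cases hq : (q : Q ⧸ A) = ((1 : Q) : Q ⧸ A)
    · rw [hq, hiff.1 hq]
    · have hr : ¬ (r : Q ⧸ A) = ((1 : Q) : Q ⧸ A) := fun hr => hq (hiff.2 hr)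
      rw [QuotientGroup.eq, mul_one, inv_mem_iff] at hq hr
      exact QuotientGroup.eq.2 (h q r hq hr)
  have := Nat.card_le_card_of_injective _ hinj
  rw [Nat.card_eq_fintype_card (α := Bool), Fintype.card_bool] at this
  exact this

/-- A group with centre and derived group of order two and an abelian subgroup of index at most two
has order at most eight. -/
theorem card_le_eight {Q : Type*} [Group Q] [Finite Q] (c : Q)
    (hcomm : ∀ x y : Q, ⁅x, y⁆ = 1 ∨ ⁅x, y⁆ = c) (hc : ∀ x : Q, Commute c x)
    (hZ : Nat.card (center Q) = 2) (A : Subgroup Q) (hA : ∀ a ∈ A, ∀ b ∈ A, Commute a b)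
    (hi : ∀ q r : Q, q ∉ A → r ∉ A → q⁻¹ * r ∈ A) : Nat.card Q ≤ 8 := by
  classical
  by_cases htop : ∀ q : Q, q ∈ A
  · have : center Q = ⊤ := by
      rw [eq_top_iff]
      intro q _
      exact mem_center_iff.2 fun r => hA r (htop r) q (htop q)
    rw [this, card_top] at hZ
    omega
  push_neg at htop
  obtain ⟨x, hx⟩ := htop
  let B : Subgroup A := (centralizer ({x} : Set Q)).subgroupOf A
  have hB : ∀ a : A, a ∈ B → (a : Q) ∈ center Q := by
    intro a ha
    have hax : (a : Q) * x = x * a := mem_centralizer_singleton_iff.1 (mem_subgroupOf.1 ha)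
    refine mem_center_iff.2 fun q => ?_
    by_cases hq : q ∈ A
    · exact hA q hq _ a.2
    · have h1 : Commute (x⁻¹ * q) (a : Q) := hA _ (hi x q hx hq) _ a.2
      have h2 : Commute x (a : Q) := hax.symm
      have h3 := h2.mul_left h1
      rwa [mul_inv_cancel_left] at h3
  have hcB : Nat.card B ≤ 2 := by
    rw [← hZ]
    exact Nat.card_le_card_of_injective (fun a : B => (⟨((a : A) : Q), hB _ a.2⟩ : center Q))
      fun a b hab => Subtype.ext (Subtype.ext (congrArg (fun z : center Q => (z : Q)) hab))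
  have hiB : B.index ≤ 2 := by
    refine index_le_two_of_diff B fun a b ha hb => ?_
    rw [mem_subgroupOf, mem_centralizer_singleton_iff] at ha hb ⊢
    have e1 : ∀ y : Q, y * x ≠ x * y → x * y * x⁻¹ = c * y := by
      intro y hy
      rcases hcomm x y with h | h
      · exact absurd (commutatorElement_eq_one_iff_commute.1 h).eq.symm hy
      · rw [← h, commutatorElement_def]; group
    have ea := e1 _ ha
    have eb := e1 _ hb
    push_cast
    have : x * ((a : Q)⁻¹ * b) * x⁻¹ = (a : Q)⁻¹ * b := by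
      calc x * ((a : Q)⁻¹ * b) * x⁻¹ = (x * a * x⁻¹)⁻¹ * (x * b * x⁻¹) := by group
        _ = (c * a)⁻¹ * (c * b) := by rw [ea, eb]
        _ = (a : Q)⁻¹ * b := by group
    exact (mul_inv_eq_iff_eq_mul.1 this).symm
  have hA2 := index_le_two_of_diff A hi
  have h1 := B.card_mul_index
  have h2 := A.card_mul_index
  have h3 : Nat.card A ≤ 2 * 2 := by
    rw [← h1]; exact Nat.mul_le_mul hcB hiB
  calc Nat.card Q = Nat.card A * A.index := h2.symm
    _ ≤ 4 * 2 := Nat.mul_le_mul (by simpa using h3) hA2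

theorem oddCore_eq_bot {G : Type*} [Group G] [Finite G] [IsSimpleGroup G] {t : G}
    (ht : orderOf t = 2) : Cfsg.oddCore G = ⊥ := by
  rcases Subgroup.Normal.eq_bot_or_eq_top (inferInstance : (Cfsg.oddCore G).Normal) with h | h
  · exact h
  · exfalso
    have h2 : Odd (Nat.card G) := by
      have := CfsgLib.Cores.odd_card_oddCore (G := G)
      rwa [h, card_top] at this
    exact Nat.not_even_iff_odd.2 h2 ((even_iff_two_dvd).2 (ht ▸ orderOf_dvd_natCard t))

variable {G : Type*} [Group G] [Finite G] [IsSimpleGroup G] (t : G)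
  (Q : Subgroup (centralizer ({t} : Set G))) [Q.Normal]

/-- The involution lies in the normal subgroup. -/
theorem self_mem (e : (centralizer ({t} : Set G)) ⧸ Q ≃* alternatingGroup (Fin 5)) :
    (⟨t, mem_centralizer_singleton_iff.2 rfl⟩ : centralizer ({t} : Set G)) ∈ Q := by
  set tC : centralizer ({t} : Set G) := ⟨t, mem_centralizer_singleton_iff.2 rfl⟩
  have hcen : ∀ x : centralizer ({t} : Set G), x * tC = tC * x := fun x =>
    Subtype.ext (mem_centralizer_singleton_iff.1 x.2)
  have h1 : e tC ∈ center (alternatingGroup (Fin 5)) := by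
    refine mem_center_iff.2 fun a => ?_
    obtain ⟨x, rfl⟩ := e.surjective a
    induction x using QuotientGroup.induction_on with | _ x =>
    rw [← map_mul, ← map_mul, ← QuotientGroup.mk_mul, ← QuotientGroup.mk_mul, hcen]
  rw [alternatingGroup.center_eq_bot (by rw [Nat.card_fin]; norm_num), mem_bot, e.map_eq_one_iff,
    QuotientGroup.eq_one_iff] at h1
  exact h1

/-- `C_C(Q) ≤ Q`. -/
theorem centralizer_le (ht : orderOf t = 2) (hQ : Cfsg.IsExtraspecial 2 Q) (hcard : Nat.card Q = 32)
    (e : (centralizer ({t} : Set G)) ⧸ Q ≃* alternatingGroup (Fin 5)) :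
    centralizer (Q : Set (centralizer ({t} : Set G))) ≤ Q := by
  classical
  let tC : (centralizer ({t} : Set G)) := ⟨t, mem_centralizer_singleton_iff.2 rfl⟩
  have htQ : tC ∈ Q := self_mem t Q e
  have htC : ∀ x : (centralizer ({t} : Set G)), Commute tC x := fun x =>
    Subtype.ext (mem_centralizer_singleton_iff.1 x.2).symm
  let tQ : Q := ⟨tC, htQ⟩
  have htQc : tQ ∈ center Q := mem_center_iff.2 fun q => Subtype.ext (htC q).eq.symm
  have htQ1 : tQ ≠ 1 := by
    intro h
    have : t = 1 := congrArg (fun q : Q => ((q : (centralizer ({t} : Set G))) : G)) h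
    rw [this, orderOf_one] at ht
    exact absurd ht (by decide)
  have hcen : ∀ z ∈ center Q, z = 1 ∨ z = tQ := by
    intro z hz
    obtain ⟨a, b, -, hu⟩ := Nat.card_eq_two_iff.1 hQ.2
    have hmem : ∀ w : center Q, w = a ∨ w = b := fun w => by
      have := (Set.ext_iff.1 hu w).2 trivial
      simpa using this
    rcases hmem ⟨z, hz⟩ with h | h <;> rcases hmem ⟨tQ, htQc⟩ with h' | h' <;>
      rcases hmem ⟨1, one_mem _⟩ with h'' | h''
    all_goals first
      | exact Or.inr (congrArg Subtype.val (h.trans h'.symm))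
      | exact Or.inl (congrArg Subtype.val (h.trans h''.symm))
      | exact absurd (congrArg Subtype.val (h'.trans h''.symm)) htQ1
  have hQcomm : ∀ x y : Q, ⁅x, y⁆ = 1 ∨ ⁅x, y⁆ = tQ := fun x y =>
    hcen _ (hQ.1.2.2 ▸ commutator_mem_commutator (mem_top x) (mem_top y))
  set K := centralizer (Q : Set (centralizer ({t} : Set G))) with hK
  haveI : K.Normal := Subgroup.normal_centralizer
  haveI : (K.map (QuotientGroup.mk' Q)).Normal :=
    Subgroup.Normal.map inferInstance _ (QuotientGroup.mk'_surjective Q)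
  haveI : IsSimpleGroup ((centralizer ({t} : Set G)) ⧸ Q) := by
    haveI : Nontrivial ((centralizer ({t} : Set G)) ⧸ Q) := e.toEquiv.nontrivial
    exact IsSimpleGroup.isSimpleGroup_of_surjective e.symm.toMonoidHom e.symm.surjective
  rcases Subgroup.Normal.eq_bot_or_eq_top (inferInstance : (K.map (QuotientGroup.mk' Q)).Normal) with
    hbot | htop
  · rw [Subgroup.map_eq_bot_iff, QuotientGroup.ker_mk'] at hbot
    exact hbot
  exfalso
  have hfac : ∀ x : (centralizer ({t} : Set G)), ∃ k ∈ K, ∃ q : Q, x = k * q := by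
    intro x
    have hx : (x : (centralizer ({t} : Set G)) ⧸ Q) ∈ K.map (QuotientGroup.mk' Q) := by rw [htop]; exact mem_top _
    obtain ⟨k, hk, hkx⟩ := mem_map.1 hx
    exact ⟨k, hk, ⟨k⁻¹ * x, QuotientGroup.eq.1 hkx⟩, by simp⟩
  have hKQ : ∀ k ∈ K, ∀ q : Q, Commute k (q : (centralizer ({t} : Set G))) := fun k hk q =>
    (mem_centralizer_iff.1 hk q q.2).symm
  have hcK : ∀ x y : (centralizer ({t} : Set G)), ⁅x, y⁆ ∈ K := by
    intro x y
    obtain ⟨k, hk, q, rfl⟩ := hfac x
    obtain ⟨l, hl, r, rfl⟩ := hfac y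
    have h1 := hKQ k hk r
    have h2 := hKQ l hl q
    have h3 := hKQ k hk q
    have h4 := hKQ l hl r
    have e1 : ⁅k * q, l * r⁆ = ⁅k, l⁆ * ((⁅q, r⁆ : Q) : (centralizer ({t} : Set G))) := by
      simp only [commutatorElement_def, coe_mul, coe_inv, mul_inv_rev]
      calc k * q * (l * r) * ((q : (centralizer ({t} : Set G)))⁻¹ * k⁻¹) * ((r : (centralizer ({t} : Set G)))⁻¹ * l⁻¹)
          = k * ((q : (centralizer ({t} : Set G))) * l) * r * (q : (centralizer ({t} : Set G)))⁻¹ * (k⁻¹ * (r : (centralizer ({t} : Set G)))⁻¹) * l⁻¹ := by group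
        _ = k * (l * q) * r * (q : (centralizer ({t} : Set G)))⁻¹ * ((r : (centralizer ({t} : Set G)))⁻¹ * k⁻¹) * l⁻¹ := by
            rw [← h2.eq, (h1.inv_inv).eq]
        _ = k * l * ((q : (centralizer ({t} : Set G))) * r * (q : (centralizer ({t} : Set G)))⁻¹ * (r : (centralizer ({t} : Set G)))⁻¹) * (k⁻¹ * l⁻¹) := by group
        _ = k * l * ((k⁻¹ * l⁻¹) * ((q : (centralizer ({t} : Set G))) * r * (q : (centralizer ({t} : Set G)))⁻¹ * (r : (centralizer ({t} : Set G)))⁻¹)) := by
            have hc : Commute ((q : (centralizer ({t} : Set G))) * r * (q : (centralizer ({t} : Set G)))⁻¹ * (r : (centralizer ({t} : Set G)))⁻¹) (k⁻¹ * l⁻¹) := by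
              have := hKQ _ (K.mul_mem (K.inv_mem hk) (K.inv_mem hl)) (q * r * q⁻¹ * r⁻¹)
              push_cast at this
              exact this.symm
            rw [mul_assoc (k * l) ((q : (centralizer ({t} : Set G))) * r * (q : (centralizer ({t} : Set G)))⁻¹ * (r : (centralizer ({t} : Set G)))⁻¹), hc.eq]
        _ = k * l * k⁻¹ * l⁻¹ * ((q : (centralizer ({t} : Set G))) * r * (q : (centralizer ({t} : Set G)))⁻¹ * (r : (centralizer ({t} : Set G)))⁻¹) := by group
    rw [e1]
    refine K.mul_mem (K.mul_mem (K.mul_mem (K.mul_mem hk hl) (K.inv_mem hk)) (K.inv_mem hl)) ?_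
    rcases hQcomm q r with h | h <;> rw [h]
    · exact K.one_mem
    · exact mem_centralizer_iff.2 fun z _ => (htC z).eq.symm
  have hsmall : ∀ x y : (centralizer ({t} : Set G)), ⁅x, y⁆ ∈ Q → ⁅x, y⁆ = 1 ∨ ⁅x, y⁆ = tC := by
    intro x y hxy
    have hz : (⟨⁅x, y⁆, hxy⟩ : Q) ∈ center Q :=
      mem_center_iff.2 fun q => Subtype.ext (hKQ _ (hcK x y) q).eq.symm
    rcases hcen _ hz with h | h
    · exact Or.inl (congrArg Subtype.val h)
    · exact Or.inr (congrArg Subtype.val h)
  have htwo : ∀ P : Subgroup (centralizer ({t} : Set G)), IsPGroup 2 P → ∀ x ∈ P, ∀ y ∈ P, ⁅x, y⁆ ∈ Q := by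
    intro P hP x hx y hy
    have hR := hP.map (QuotientGroup.mk' Q)
    obtain ⟨n, hn⟩ := IsPGroup.iff_card.1 hR
    have h60 : Nat.card ((centralizer ({t} : Set G)) ⧸ Q) = 60 := by
      rw [Nat.card_congr e.toEquiv]
      rw [nat_card_alternatingGroup]
      simp [Nat.factorial]
    have hd : 2 ^ n ∣ 60 := by
      rw [← hn, ← h60]; exact Subgroup.card_subgroup_dvd_card _
    have hn2 : n ≤ 2 := by
      by_contra hne
      push_neg at hne
      exact absurd ((pow_dvd_pow 2 (show 3 ≤ n from hne)).trans hd) (by decide)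
    have habel : ∀ a b : ↥(P.map (QuotientGroup.mk' Q)), Commute a b := by
      interval_cases n
      · haveI : Subsingleton ↥(P.map (QuotientGroup.mk' Q)) :=
          (Nat.card_eq_one_iff_unique.1 (hn.trans (pow_zero 2))).1
        exact fun a b => Subsingleton.elim _ _
      · haveI : Fact (Nat.Prime 2) := ⟨Nat.prime_two⟩
        haveI : IsCyclic ↥(P.map (QuotientGroup.mk' Q)) := isCyclic_of_prime_card (p := 2) (hn.trans (pow_one 2))
        letI := IsCyclic.commGroup (α := ↥(P.map (QuotientGroup.mk' Q)))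
        exact fun a b => mul_comm a b
      · haveI : Fact (Nat.Prime 2) := ⟨Nat.prime_two⟩
        letI := IsPGroup.commGroupOfCardEqPrimeSq (p := 2) hn
        exact fun a b => mul_comm a b
    have := congrArg Subtype.val
      (habel ⟨_, mem_map_of_mem _ hx⟩ ⟨_, mem_map_of_mem _ hy⟩).eq
    rw [← QuotientGroup.eq_one_iff]
    show (QuotientGroup.mk' Q) ⁅x, y⁆ = 1
    rw [map_commutatorElement, commutatorElement_eq_one_iff_commute]
    exact this
  -- a commuting conjugate
  have hiso : ¬ Cfsg.IsIsolatedInvolution t := by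
    intro hiso
    have hcG := CfsgLib.Invol.zstar_center hiso (oddCore_eq_bot ht)
    have hallC : (centralizer ({t} : Set G)) = ⊤ := by
      rw [eq_top_iff]
      exact fun g _ => mem_centralizer_singleton_iff.2 (mem_center_iff.1 hcG g)
    haveI : (zpowers t).Normal := ⟨fun a ha g => by
      obtain ⟨m, rfl⟩ := mem_zpowers_iff.1 ha
      rw [((show Commute g t from mem_center_iff.1 hcG g).zpow_right m).eq, mul_inv_cancel_right]
      exact zpow_mem (mem_zpowers t) m⟩
    rcases Subgroup.Normal.eq_bot_or_eq_top (inferInstance : (zpowers t).Normal) with h | h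
    · rw [zpowers_eq_bot] at h
      rw [h, orderOf_one] at ht
      exact absurd ht (by decide)
    · have hG : Nat.card G = 2 := by
        rw [← card_top (G := G), ← h, Nat.card_zpowers, ht]
      have h1 : Nat.card (centralizer ({t} : Set G)) = 2 := by rw [hallC, card_top, hG]
      have h2 : Nat.card Q ∣ Nat.card (centralizer ({t} : Set G)) := Subgroup.card_subgroup_dvd_card Q
      rw [h1, hcard] at h2
      exact absurd h2 (by decide)
  simp only [Cfsg.IsIsolatedInvolution, not_and, not_forall] at hiso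
  obtain ⟨g, hgc, hgne⟩ := hiso ht
  let sC : (centralizer ({t} : Set G)) := ⟨g * t * g⁻¹, mem_centralizer_singleton_iff.2 hgc.eq.symm⟩
  have hsts : ∀ q : Q, ⁅sC, (q : (centralizer ({t} : Set G)))⁆ = 1 ∨ ⁅sC, (q : (centralizer ({t} : Set G)))⁆ = tC := by
    intro q
    refine hsmall _ _ ?_
    rw [commutatorElement_def]
    exact Q.mul_mem ((inferInstance : Q.Normal).conj_mem q q.2 sC) (Q.inv_mem q.2)
  let A : Subgroup Q := (centralizer ({sC} : Set (centralizer ({t} : Set G)))).subgroupOf Q
  have hmemA : ∀ q : Q, q ∈ A ↔ (q : (centralizer ({t} : Set G))) * sC = sC * q := fun q => by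
    rw [mem_subgroupOf, mem_centralizer_singleton_iff]
  have hQ2 : IsPGroup 2 Q := hQ.1.1
  have hA : ∀ a ∈ A, ∀ b ∈ A, Commute a b := by
    -- conjugation into the centralizer of `t`
    have hin : ∀ a : A, g⁻¹ * (((a : Q) : (centralizer ({t} : Set G))) : G) * g ∈ (centralizer ({t} : Set G)) := by
      intro a
      have h : (((a : Q) : (centralizer ({t} : Set G))) : G) * (g * t * g⁻¹) = (g * t * g⁻¹) * (((a : Q) : (centralizer ({t} : Set G))) : G) :=
        congrArg Subtype.val ((hmemA a).1 a.2)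
      refine mem_centralizer_singleton_iff.2 ?_
      calc g⁻¹ * (((a : Q) : (centralizer ({t} : Set G))) : G) * g * t
          = g⁻¹ * ((((a : Q) : (centralizer ({t} : Set G))) : G) * (g * t * g⁻¹)) * g := by group
        _ = g⁻¹ * ((g * t * g⁻¹) * (((a : Q) : (centralizer ({t} : Set G))) : G)) * g := by rw [h]
        _ = t * (g⁻¹ * (((a : Q) : (centralizer ({t} : Set G))) : G) * g) := by group
    let ψ : A →* (centralizer ({t} : Set G)) :=
      { toFun := fun a => ⟨g⁻¹ * (((a : Q) : (centralizer ({t} : Set G))) : G) * g, hin a⟩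
        map_one' := Subtype.ext (by simp)
        map_mul' := fun a b => Subtype.ext (by simp only [coe_mul]; group) }
    have hP : IsPGroup 2 ψ.range :=
      (hQ2.to_subgroup A).of_surjective ψ.rangeRestrict ψ.rangeRestrict_surjective
    intro a ha b hb
    refine commutatorElement_eq_one_iff_commute.1 ?_
    have h1 := hsmall _ _ (htwo _ hP (ψ ⟨a, ha⟩) ⟨_, rfl⟩ (ψ ⟨b, hb⟩) ⟨_, rfl⟩)
    rw [← map_commutatorElement] at h1
    rcases hQcomm a b with h | h
    · exact h
    exfalso
    have h' : ((ψ ⁅(⟨a, ha⟩ : A), ⟨b, hb⟩⁆ : (centralizer ({t} : Set G))) : G) = g⁻¹ * t * g := by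
      show g⁻¹ * _ * g = g⁻¹ * t * g
      rw [show (((⁅(⟨a, ha⟩ : A), ⟨b, hb⟩⁆ : A) : Q)) = tQ from h]
    rcases h1 with h1 | h1
    · rw [congrArg Subtype.val h1, OneMemClass.coe_one] at h'
      have : t = 1 := by
        have := congrArg (fun z => g * z * g⁻¹) h'
        simpa [mul_assoc] using this.symm
      rw [this, orderOf_one] at ht
      exact absurd ht (by decide)
    · rw [congrArg Subtype.val h1] at h'
      apply hgne
      have h'' : t = g⁻¹ * t * g := h'
      calc g * t * g⁻¹ = g * (g⁻¹ * t * g) * g⁻¹ := by rw [← h'']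
        _ = t := by group
  have hi : ∀ q r : Q, q ∉ A → r ∉ A → q⁻¹ * r ∈ A := by
    intro q r hq hr
    rw [hmemA] at hq hr ⊢
    have e1 : ∀ y : Q, (y : (centralizer ({t} : Set G))) * sC ≠ sC * y → sC * y * sC⁻¹ = tC * y := by
      intro y hy
      rcases hsts y with h | h
      · exact absurd (commutatorElement_eq_one_iff_commute.1 h).eq.symm hy
      · rw [← h, commutatorElement_def]; group
    push_cast
    have : sC * ((q : (centralizer ({t} : Set G)))⁻¹ * r) * sC⁻¹ = (q : (centralizer ({t} : Set G)))⁻¹ * r := by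
      calc sC * ((q : (centralizer ({t} : Set G)))⁻¹ * r) * sC⁻¹ = (sC * q * sC⁻¹)⁻¹ * (sC * r * sC⁻¹) := by group
        _ = (tC * q)⁻¹ * (tC * r) := by rw [e1 q hq, e1 r hr]
        _ = (q : (centralizer ({t} : Set G)))⁻¹ * r := by group
    exact (mul_inv_eq_iff_eq_mul.1 this).symm
  have := card_le_eight tQ hQcomm (fun x => Subtype.ext (htC x).eq) hQ.2 A hA hi
  omega

end CfsgLib.JThreeType
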