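import Cfsg.Agent.Lib.JTwoUniq.NotWeak
import Cfsg.Agent.Lib.HJType.AltFive
import Cfsg.Agent.Lib.LargeExtra.SubExtra
import Cfsg.Agent.Lib.JThreeType.SelfCent

/-!
The hypotheses of Hall-Janko / Janko type derived from the weakest ones.
-/

set_option autoImplicit false
set_option linter.style.haveILetI false

namespace CfsgLib.JThreeType

open Subgroup

variable {G : Type*} [Group G] [Finite G] [IsSimpleGroup G] (t : G)
  (Q : Subgroup (centralizer ({t} : Set G))) [Q.Normal]

/-- The setting of `Lib/JTwoUniq`. -/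
theorem pre_of (ht : orderOf t = 2) (hQ : Cfsg.IsExtraspecial 2 Q) (hcard : Nat.card Q = 32)
    (e : (centralizer ({t} : Set G)) ⧸ Q ≃* alternatingGroup (Fin 5)) :
    CfsgLib.JTwoUniq.Pre t (Q.map (centralizer ({t} : Set G)).subtype) := by
  have h2c := centralizer_le t Q ht hQ hcard e
  have eQ := Q.equivMapOfInjective (centralizer ({t} : Set G)).subtype (centralizer ({t} : Set G)).subtype_injective
  refine ⟨ht, map_subtype_le Q, ?_, CfsgLib.LargeExtra.isExtraspecial_of_mulEquiv eQ hQ, ?_, ?_, ?_⟩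
  · intro h hh
    refine mem_normalizer_iff.2 fun x => ⟨?_, ?_⟩
    · rintro ⟨q, hq, rfl⟩
      exact ⟨⟨h, hh⟩ * q * ⟨h, hh⟩⁻¹, (inferInstance : Q.Normal).conj_mem q hq _, rfl⟩
    · rintro ⟨q, hq, hqe⟩
      refine ⟨⟨h, hh⟩⁻¹ * q * ⟨h, hh⟩, by simpa using (inferInstance : Q.Normal).conj_mem q hq ⟨h, hh⟩⁻¹, ?_⟩
      show h⁻¹ * (q : G) * h = x
      rw [show (q : G) = h * x * h⁻¹ from hqe]
      group
  · rw [← Nat.card_congr eQ.toEquiv, hcard]
  · have h := card_mul_index Q
    rw [index_eq_card, Nat.card_congr e.toEquiv, CfsgLib.HJType.a5_card, hcard] at h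
    rw [← h]
  · intro x hx hc
    refine ⟨⟨x, hx⟩, h2c (mem_centralizer_iff.2 fun q hq => Subtype.ext ?_), rfl⟩
    exact (hc q ⟨q, hq, rfl⟩).symm

/-- No elementary abelian subgroup of order eight. -/
theorem minus_of (ht : orderOf t = 2) (hQ : Cfsg.IsExtraspecial 2 Q) (hcard : Nat.card Q = 32)
    (e : (centralizer ({t} : Set G)) ⧸ Q ≃* alternatingGroup (Fin 5)) :
    ∀ E : Subgroup Q, Cfsg.IsElementaryAbelian 2 E → Nat.card E ≤ 2 ^ 2 := by
  intro E hE
  have pre := pre_of t Q ht hQ hcard e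
  let eQ := Q.equivMapOfInjective (centralizer ({t} : Set G)).subtype (centralizer ({t} : Set G)).subtype_injective
  have h1 : Cfsg.IsElementaryAbelian 2 (E.map eQ.toMonoidHom) :=
    CfsgLib.PGroup.elemAb_map hE eQ.toMonoidHom
  have h2 := pre.minus.small _ h1
  rw [← Nat.card_congr (E.equivMapOfInjective eQ.toMonoidHom eQ.injective).toEquiv] at h2
  exact h2

end CfsgLib.JThreeType
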