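import Cfsg.Agent.Lib.J3.SylowSelf
import Cfsg.Agent.Lib.JThreeType.Exponent

/-!
Sylow subgroups of orders 17 and 19 in a group of Janko's third type, given the isomorphism type.
-/

set_option autoImplicit false

namespace CfsgLib.JThreeType

open Subgroup

theorem sylow_facts {G : Type*} [Group G] [Finite G] [IsSimpleGroup G]
    (hone : ∀ x y : G, orderOf x = 2 → orderOf y = 2 → IsConj x y) (t : G) (ht : orderOf t = 2)
    (Q : Subgroup (centralizer ({t} : Set G))) [Q.Normal] (hQ : Cfsg.IsExtraspecial 2 Q)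
    (hcard : Nat.card Q = 32) (e : (centralizer ({t} : Set G)) ⧸ Q ≃* alternatingGroup (Fin 5))
    (hiso : Cfsg.Spor.IsoJ3 G) :
    (∀ X : Sylow 19 G, centralizer ((X : Subgroup G) : Set G) = X ∧
        ∃ h : ((X : Subgroup G).subgroupOf (normalizer ((X : Subgroup G) : Set G))).Normal,
          IsCyclic (↥(normalizer ((X : Subgroup G) : Set G)) ⧸ (X : Subgroup G).subgroupOf _) ∧
          Nat.card (↥(normalizer ((X : Subgroup G) : Set G)) ⧸ (X : Subgroup G).subgroupOf _) = 9) ∧
    (∀ Y : Sylow 17 G, centralizer ((Y : Subgroup G) : Set G) = Y ∧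
        ∃ h : ((Y : Subgroup G).subgroupOf (normalizer ((Y : Subgroup G) : Set G))).Normal,
          IsCyclic (↥(normalizer ((Y : Subgroup G) : Set G)) ⧸ (Y : Subgroup G).subgroupOf _) ∧
          Nat.card (↥(normalizer ((Y : Subgroup G) : Set G)) ⧸ (Y : Subgroup G).subgroupOf _) = 8) :=
  CfsgLib.J3.sylow_nineteen_seventeen (CfsgLib.J3.card_of_iso hiso)
    (no_order_sixteen t Q hone ht hQ e) (card_centralizer_conj t Q hone ht hcard e)
    (CfsgLib.J3.exists_cent19 hiso)

/-- The quotient by a complemented normal subgroup. -/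
theorem quot_of_complement {G : Type*} [Group G] (E A : Subgroup G) [E.Normal]
    (hEA : E.IsComplement' A) {B : Type*} [Group B] (eA : A ≃* B) : Nonempty (G ⧸ E ≃* B) :=
  ⟨(Subgroup.IsComplement'.QuotientMulEquiv hEA.symm).trans eA⟩

end CfsgLib.JThreeType
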