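import Cfsg.Agent.Lib.JThreeType.Hyps
import Cfsg.Agent.Lib.HJType.Order
import Cfsg.Agent.Lib.HJType.Hyp
import Cfsg.Prelude.Def_Sporadic

/-!
An involution centralizer `2^(1+4).A5` in a simple group with more than one class of involutions.
-/

set_option autoImplicit false

namespace CfsgLib.JThreeType

open Subgroup

theorem isJ2_of_two_classes {G : Type*} [Group G] [Finite G] [IsSimpleGroup G] (t : G) (ht : orderOf t = 2)
    (Q : Subgroup (centralizer ({t} : Set G))) [Q.Normal] (hQ : Cfsg.IsExtraspecial 2 Q)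
    (hcard : Nat.card Q = 32) (e : (centralizer ({t} : Set G)) ⧸ Q ≃* alternatingGroup (Fin 5))
    (hcl : ¬ ∀ x y : G, orderOf x = 2 → orderOf y = 2 → IsConj x y) : Cfsg.IsJ2 G := by
  refine ⟨inferInstance, ?_⟩
  have pre := pre_of t Q ht hQ hcard e
  have st : CfsgLib.HJType.Setup t (Q.map (centralizer ({t} : Set G)).subtype) :=
    ⟨pre.hz, pre.hQH, pre.hnorm, pre.hE, pre.h32, pre.hH, pre.hself, pre.not_weak⟩
  push_neg at hcl
  obtain ⟨t', P⟩ := st.exists_pair hcl
  obtain ⟨V, B, d⟩ := P.exists_dData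
  exact d.card_G

/-- The dichotomy, given the case of one class of involutions. -/
theorem dichotomy {G : Type*} [Group G] [Finite G] [IsSimpleGroup G] (t : G) (ht : orderOf t = 2)
    (Q : Subgroup (centralizer ({t} : Set G))) [Q.Normal] (hQ : Cfsg.IsExtraspecial 2 Q)
    (hcard : Nat.card Q = 32) (e : (centralizer ({t} : Set G)) ⧸ Q ≃* alternatingGroup (Fin 5))
    {P : Prop} (h : (∀ x y : G, orderOf x = 2 → orderOf y = 2 → IsConj x y) → P) :
    Cfsg.IsJ2 G ∨ P := by
  by_cases hcl : ∀ x y : G, orderOf x = 2 → orderOf y = 2 → IsConj x y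
  · exact Or.inr (h hcl)
  · exact Or.inl (isJ2_of_two_classes t ht Q hQ hcard e hcl)

end CfsgLib.JThreeType
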